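import Mathlib
import Cfsg.Agent.H254.CopOrth
import Cfsg.Agent.H967.CopSec
import Cfsg.Agent.H185.MinusField
import Cfsg.Agent.H182.Torus
import Cfsg.Agent.H902.Iso
import Cfsg.Agent.H686.CgPsp
import Cfsg.Agent.H155.Unit
import Cfsg.Agent.FastGrp
import Cfsg.Agent.Prune
set_option linter.all false

section
prune_inst 0x7f00000000000000000000000000000000000000000000000000000000000000000000000000000000000000000000000000000000000000000000000000000000000000000000000000000000000000003fffffffffffffffffffffffffffbeffbdffffffff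

-- part: H24/FixOrth
section
set_option linter.all false
open scoped Cfsg.Agent.FastGrp

/-!
# Fixed points of coprime automorphisms of the orthogonal groups

* `exists_conj` : automorphisms of the same order prime to `|K|` generate conjugate groups if `CopIn K σ`;
* `sec_orth` : `PΩ(E, Q₀)` is a section of the fixed points of the standard field automorphism of `PΩ(F, Q)`;
* `aniso_map` : anisotropic binary forms stay anisotropic over an extension of odd degree;
* `fix_odd`, `fix_plus`, `fix_minus` : for `K ≃* PΩ(F)`, `α` an automorphism of order prime to `|K|`, there is a subfield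
  `E`, `|F| = |E| ^ orderOf α`, such that `PΩ(E)` is a section of `C_K(α)`.
-/

set_option autoImplicit false
set_option linter.unusedSectionVars false

namespace Cfsg.Agent.H24.FixOrth

open Cfsg Matrix QuadraticMap Cfsg.Agent.H254 Cfsg.Agent.H967.CopMat Cfsg.Agent.H967.CopSec
open Cfsg.Agent.LieClassical.OrthTrans Cfsg.Agent.ClassicalGeometry.OrthSemi Cfsg.Agent.LieClassical.OrthSimple
  Cfsg.Agent.H198.OrthFrame Cfsg.Agent.H198.ExtForm Cfsg.Agent.H198.Carriers Cfsg.Agent.H185.OrthCent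
  Cfsg.Agent.H185.MinusField

universe u v

/-! ### Conjugacy -/

section conj

variable {K : Type u} [Group K] [Finite K] {σ : MulAut K}

theorem exists_conj (h : CopIn K σ) (α τ : MulAut K) (hα : (orderOf α).Coprime (Nat.card K))
    (ho : orderOf τ = orderOf α) : ∃ g : MulAut K, MulAut.conj g α ∈ Subgroup.zpowers τ := by
  have : Finite (MulAut K) := Finite.of_injective (fun f : K ≃* K => (f : K → K)) DFunLike.coe_injective
  obtain ⟨g₁, h₁⟩ := h (Subgroup.zpowers α) (by rw [Nat.card_zpowers]; exact hα)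
  obtain ⟨g₂, h₂⟩ := h (Subgroup.zpowers τ) (by rw [Nat.card_zpowers, ho]; exact hα)
  have hc : Nat.card ((Subgroup.zpowers α).map (MulAut.conj g₁).toMonoidHom) =
      Nat.card ((Subgroup.zpowers τ).map (MulAut.conj g₂).toMonoidHom) := by
    rw [Subgroup.card_map_of_injective (MulAut.conj g₁).injective,
      Subgroup.card_map_of_injective (MulAut.conj g₂).injective, Nat.card_zpowers, Nat.card_zpowers, ho]
  have he := OddOrderLocal.CyclicSub.eq_of_card_eq_of_le_cyclic (Z := Subgroup.zpowers σ) inferInstance h₁ h₂ hc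
  have h3 : (MulAut.conj g₁).toMonoidHom α ∈ (Subgroup.zpowers τ).map (MulAut.conj g₂).toMonoidHom := by
    rw [← he]
    exact ⟨α, Subgroup.mem_zpowers α, rfl⟩
  obtain ⟨x, hx, hxe⟩ := h3
  refine ⟨g₂⁻¹ * g₁, ?_⟩
  have h4 : g₂ * x * g₂⁻¹ = g₁ * α * g₁⁻¹ := hxe
  have h5 : MulAut.conj (g₂⁻¹ * g₁) α = x := by
    rw [MulAut.conj_apply]
    calc g₂⁻¹ * g₁ * α * (g₂⁻¹ * g₁)⁻¹ = g₂⁻¹ * (g₁ * α * g₁⁻¹) * g₂ := by group
      _ = g₂⁻¹ * (g₂ * x * g₂⁻¹) * g₂ := by rw [h4]
      _ = x := by group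
  rw [h5]; exact hx

/-- Sections of the fixed points of `τ` are sections of the fixed points of `α`. -/
theorem sec_of_copIn (h : CopIn K σ) (α τ : MulAut K) (hα : (orderOf α).Coprime (Nat.card K))
    (ho : orderOf τ = orderOf α) {Y : Type*} [Group Y] (hY : Sec K τ Y) : Sec K α Y := by
  obtain ⟨g, hg⟩ := exists_conj h α τ hα ho
  have h1 : Sec K (MulAut.conj g α) Y := hY.of_zpowers hg
  refine Sec.congr (K' := K) (α' := MulAut.conj g α) g ?_ h1
  intro x
  have h2 : g⁻¹ (g x) = x := by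
    rw [← MulAut.mul_apply, inv_mul_cancel]; rfl
  rw [MulAut.conj_apply, MulAut.mul_apply, MulAut.mul_apply, h2]

/-- Transport along an isomorphism. -/
theorem sec_of_equiv {K' : Type v} [Group K'] (e : K ≃* K') (α : MulAut K) {Y : Type*} [Group Y]
    (h : Sec K' (MulAut.congr e α) Y) : Sec K α Y := by
  refine Sec.congr e ?_ h
  intro x
  change e (α x) = e (α (e.symm (e x)))
  rw [MulEquiv.symm_apply_apply]

theorem orderOf_congr {K' : Type v} [Group K'] (e : K ≃* K') (α : MulAut K) :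
    orderOf (MulAut.congr e α) = orderOf α :=
  orderOf_injective (MulAut.congr e).toMonoidHom (MulAut.congr e).injective α

/-- The order of a coprime automorphism divides the field degree. -/
theorem dvd_of_card {c f : ℕ} (hc : ∀ r : ℕ, r.Prime → r ∣ c → r ∣ Nat.card K)
    (h : Nat.card (MulAut K) ∣ c * f * Nat.card K) (α : MulAut K) (hα : (orderOf α).Coprime (Nat.card K)) :
    orderOf α ∣ f := by
  have h1 : orderOf α ∣ c * f * Nat.card K := (orderOf_dvd_natCard α).trans h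
  have h2 : orderOf α ∣ c * f := hα.dvd_of_dvd_mul_right h1
  refine Nat.Coprime.dvd_of_dvd_mul_left ?_ h2
  rw [Nat.coprime_iff_gcd_eq_one]
  by_contra hne
  obtain ⟨q, hq, hqd⟩ := Nat.exists_prime_and_dvd hne
  have h3 : q ∣ Nat.gcd (orderOf α) (Nat.card K) :=
    Nat.dvd_gcd (hqd.trans (Nat.gcd_dvd_left _ _)) (hc q hq (hqd.trans (Nat.gcd_dvd_right _ _)))
  rw [hα] at h3
  exact hq.one_lt.ne' (Nat.dvd_one.1 h3)

/-- A field automorphism of given order. -/
theorem exists_order (F : Type*) [Field F] [Finite F] {n : ℕ} (hn : n ∣ Nat.card (F ≃+* F)) :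
    ∃ σ : F ≃+* F, orderOf σ = n := by
  obtain ⟨ρ, hρ, -⟩ := _root_.Cfsg.Agent.H254.exists_ringAut F
  obtain ⟨k, hk⟩ := hn
  have hfin : Finite (F ≃+* F) := Finite.of_injective (fun f : F ≃+* F => (f : F → F)) DFunLike.coe_injective
  have h0 : 0 < Nat.card (F ≃+* F) := Nat.card_pos
  have hk0 : k ≠ 0 := by rintro rfl; rw [hk, mul_zero] at h0; exact lt_irrefl _ h0
  refine ⟨ρ ^ k, ?_⟩
  rw [orderOf_pow_of_dvd hk0 (by rw [hρ, hk]; exact dvd_mul_left k n), hρ, hk,
    Nat.mul_div_cancel _ (Nat.pos_of_ne_zero hk0)]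

end conj

/-! ### The section -/

section sec

variable {ι : Type} [Fintype ι] [DecidableEq ι] {F : Type u} [Field F] {F₀ : Type v} [Field F₀]
  {j : F₀ →+* F} {Q₀ : QuadraticForm F₀ (ι → F₀)} {Q : QuadraticForm F (ι → F)}

/-- Isometries over the small field. -/
def isoHom (h : _root_.Cfsg.Agent.H185.OrthCent.Ext j Q₀ Q) : isometryGroup F₀ ⇑Q₀ →* isometryGroup F ⇑Q where
  toFun g := ⟨mp j g.1, fun v _ => by
    have h1 := h.sim (g := g.1) (c := 1) (fun v => by rw [one_mul]; exact g.2 v v) v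
    rw [map_one, one_mul] at h1
    exact h1⟩
  map_one' := Subtype.ext (map_one _)
  map_mul' g k := Subtype.ext (map_mul _ _ _)

theorem isoHom_injective (h : _root_.Cfsg.Agent.H185.OrthCent.Ext j Q₀ Q) : Function.Injective (isoHom h) := by
  intro g k H
  exact Subtype.ext (mp_injective j (congrArg Subtype.val H))

theorem isoHom_mem (h : _root_.Cfsg.Agent.H185.OrthCent.Ext j Q₀ Q) (g : isometryGroup F₀ ⇑Q₀) (hg : g ∈ Omega F₀ ⇑Q₀) :
    isoHom h g ∈ Omega F ⇑Q := by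
  have h1 : (commutator (isometryGroup F₀ ⇑Q₀)).map (isoHom h) ≤ commutator (isometryGroup F ⇑Q) := by
    rw [commutator_def, commutator_def, Subgroup.map_commutator]
    exact Subgroup.commutator_mono le_top le_top
  exact h1 ⟨g, hg, rfl⟩

/-- `Ω` over the small field. -/
def omHom (h : _root_.Cfsg.Agent.H185.OrthCent.Ext j Q₀ Q) : Omega F₀ ⇑Q₀ →* Omega F ⇑Q :=
  ((isoHom h).comp (Omega F₀ ⇑Q₀).subtype).codRestrict _ (fun g => isoHom_mem h g.1 g.2)

theorem omHom_injective (h : _root_.Cfsg.Agent.H185.OrthCent.Ext j Q₀ Q) : Function.Injective (omHom h) := by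
  intro g k H
  exact Subtype.ext (isoHom_injective h (congrArg Subtype.val H))

theorem sec_orth (h : _root_.Cfsg.Agent.H185.OrthCent.Ext j Q₀ Q) (hG : Good Q) {σ : F ≃+* F} (hσ : _root_.Cfsg.Agent.H185.OrthCent.Fix σ Q) (hj : ∀ b, σ (j b) = j b) :
    Sec (POmega F ⇑Q) (Phi hG (frobG hσ)) (POmega F₀ ⇑Q₀) := by
  refine sec_of_center (omHom h) (omHom_injective h) (Phi hG (frobG hσ)) ?_
  intro x
  apply Phi_mk
  intro v
  rw [frobG_apply, frobG_apply]
  change (mp j (x.1.1 : GL ι F₀) : Matrix ι ι F) *ᵥ (fun i => σ (v i)) = fun i => σ (((mp j (x.1.1 : GL ι F₀) : Matrix ι ι F) *ᵥ v) i)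
  funext i
  simp only [Matrix.mulVec, dotProduct, map_sum, map_mul, coe_mp, Matrix.map_apply, hj]

end sec

/-! ### Anisotropic binary forms -/

theorem aniso_map {E : Type v} [Field E] [Finite E] {F : Type u} [Field F] [Finite F] (j : E →+* F) {n : ℕ} (hn : Odd n)
    (hc : Nat.card F = Nat.card E ^ n) {a b : E} (hab : Aniso a b) : Aniso (j a) (j b) := by
  have := Fintype.ofFinite F
  have := Fintype.ofFinite E
  let _ : Algebra E F := j.toAlgebra
  have hfin : Module.finrank E F = n := by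
    have h4 := Module.card_eq_pow_finrank (K := E) (V := F)
    rw [← Nat.card_eq_fintype_card, ← Nat.card_eq_fintype_card, hc] at h4
    exact (Nat.pow_right_injective (by
      rw [Nat.card_eq_fintype_card]
      exact Fintype.one_lt_card) h4).symm
  intro z₁ z₂ hz
  by_contra hne
  have hz2 : z₂ ≠ 0 := by
    rintro rfl
    apply hne
    have h1 : z₁ ^ 2 = 0 := by linear_combination hz
    exact ⟨(pow_eq_zero_iff two_ne_zero).1 h1, rfl⟩
  -- `z = z₁ / z₂` is a root of `X² + a X + b`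
  set z := -(z₁ / z₂) with hzd
  have hroot : z ^ 2 - j a * z + j b = 0 := by
    rw [hzd]
    have h1 : (z₁ ^ 2 + j a * z₁ * z₂ + j b * z₂ ^ 2) / z₂ ^ 2 = 0 := by rw [hz, zero_div]
    rw [← h1]
    field_simp
    ring
  have hirr := irreducible_pol hab
  have haeval : Polynomial.aeval z (pol a b) = 0 := by
    unfold pol
    rw [map_add, map_sub, map_pow, map_mul, Polynomial.aeval_X, Polynomial.aeval_C, Polynomial.aeval_C]
    exact hroot
  have hmin : (minpoly E z).natDegree = 2 := by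
    have h1 := minpoly.eq_of_irreducible hirr haeval
    have h2 : (pol a b).natDegree = 2 := natDegree_pol a b
    rw [← h1, Polynomial.natDegree_mul_C (inv_ne_zero (Polynomial.leadingCoeff_ne_zero.2 hirr.ne_zero)), h2]
  have hdvd : 2 ∣ n := by
    rw [← hmin, ← hfin]
    exact minpoly.degree_dvd (Algebra.IsIntegral.isIntegral z)
  exact (Nat.not_even_iff_odd.2 hn) (even_iff_two_dvd.2 hdvd)

/-! ### The forms -/

section forms

variable {F : Type u} [Field F] {F₀ : Type v} [Field F₀]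

theorem ext_oddQ (j : F₀ →+* F) (m : ℕ) : _root_.Cfsg.Agent.H185.OrthCent.Ext j (oddQ m F₀) (oddQ m F) :=
  ⟨fun v => by
    change quadFormOdd m F (fun i => j (v i)) = j (quadFormOdd m F₀ v)
    simp only [quadFormOdd, map_add, map_sum, map_mul, map_pow]⟩

theorem fix_oddQ (σ : F ≃+* F) (m : ℕ) : _root_.Cfsg.Agent.H185.OrthCent.Fix σ (oddQ m F) := by
  intro v
  change quadFormOdd m F (fun i => σ (v i)) = σ (quadFormOdd m F v)
  simp only [quadFormOdd, map_add, map_sum, map_mul, map_pow]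

theorem ext_plusQ (j : F₀ →+* F) (m : ℕ) : _root_.Cfsg.Agent.H185.OrthCent.Ext j (plusQ m F₀) (plusQ m F) :=
  ⟨fun v => by
    change quadFormPlus m F (fun i => j (v i)) = j (quadFormPlus m F₀ v)
    simp only [quadFormPlus, map_sum, map_mul]⟩

theorem fix_minus' {σ : F ≃+* F} {a b : F} (ha : σ a = a) (hb : σ b = b) (m : ℕ) : _root_.Cfsg.Agent.H185.OrthCent.Fix σ (minusQ m F a b) :=
  H185.MinusField.fix_minus ha hb m

theorem fix_plusQ (σ : F ≃+* F) (m : ℕ) : _root_.Cfsg.Agent.H185.OrthCent.Fix σ (plusQ m F) := by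
  intro v
  change quadFormPlus m F (fun i => σ (v i)) = σ (quadFormPlus m F v)
  simp only [quadFormPlus, map_sum, map_mul]

end forms

/-! ### The rows -/

section rows

variable {F : Type u} [Field F] [Fintype F] {m : ℕ} {K : Type v} [Group K] [Finite K] [IsSimpleGroup K]

/-- The generic row. -/
theorem fix_gen {ι : Type} [Fintype ι] [DecidableEq ι] [Nonempty ι] {Q : QuadraticForm F (ι → F)} (hG : Good Q) {c : ℕ}
    (hc : ∀ r : ℕ, r.Prime → r ∣ c → r ∣ Nat.card K)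
    (e : K ≃* POmega F ⇑Q)
    (hcop : ∃ σ₀ : MulAut (POmega F ⇑Q), CopIn (POmega F ⇑Q) σ₀)
    (hcard : Nat.card (MulAut (POmega F ⇑Q)) ∣ c * Nat.card (F ≃+* F) * Nat.card (POmega F ⇑Q))
    (α : MulAut K) (hα : (orderOf α).Coprime (Nat.card K))
    (Q₀ : ∀ E : Subfield F, QuadraticForm E (ι → E))
    (hQ : ∀ σ : F ≃+* F, orderOf σ = orderOf α → _root_.Cfsg.Agent.H185.OrthCent.Fix σ Q ∧ _root_.Cfsg.Agent.H185.OrthCent.Ext (Fx σ).subtype (Q₀ (Fx σ)) Q) :
    ∃ E : Subfield F, Nat.card F = Nat.card E ^ orderOf α ∧ Sec K α (POmega E ⇑(Q₀ E)) := by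
  obtain ⟨σ₀, hσ₀⟩ := hcop
  have hfin : Finite (POmega F ⇑Q) := Finite.of_equiv K e.toEquiv
  have hKc : Nat.card (POmega F ⇑Q) = Nat.card K := Nat.card_congr e.symm.toEquiv
  have hα' : (orderOf (MulAut.congr e α)).Coprime (Nat.card (POmega F ⇑Q)) := by
    rw [orderOf_congr, hKc]; exact hα
  have hn : orderOf (MulAut.congr e α) ∣ Nat.card (F ≃+* F) :=
    dvd_of_card (K := POmega F ⇑Q) (c := c) (by rw [hKc]; exact hc) hcard _ hα'
  obtain ⟨σ, hσ⟩ := exists_order F hn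
  rw [orderOf_congr] at hσ
  obtain ⟨h1, h2⟩ := hQ σ hσ
  refine ⟨Fx σ, by rw [← hσ]; exact card_Fx σ, ?_⟩
  have h3 : Sec (POmega F ⇑Q) (Phi hG (frobG h1)) (POmega (Fx σ) ⇑(Q₀ (Fx σ))) :=
    sec_orth h2 hG h1 (fun b => b.2)
  exact sec_of_equiv e α (sec_of_copIn hσ₀ _ _ hα' (by rw [orderOf_Phi_frob, orderOf_congr, hσ]) h3)

private theorem fix_gen' {ι : Type} [Fintype ι] [DecidableEq ι] [Nonempty ι] {Q : QuadraticForm F (ι → F)} (hG : Good Q)
    {q : (ι → F) → F} (hq : ⇑Q = q) {c : ℕ}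
    (hc : ∀ r : ℕ, r.Prime → r ∣ c → r ∣ Nat.card K)
    (e : K ≃* POmega F q)
    (hcop : ∃ σ₀ : MulAut (POmega F q), CopIn (POmega F q) σ₀)
    (hcard : Nat.card (MulAut (POmega F q)) ∣ c * Nat.card (F ≃+* F) * Nat.card (POmega F q))
    (α : MulAut K) (hα : (orderOf α).Coprime (Nat.card K))
    (Q₀ : ∀ E : Subfield F, QuadraticForm E (ι → E)) (q₀ : ∀ E : Subfield F, (ι → E) → E)
    (hq₀ : (fun E => ⇑(Q₀ E)) = q₀)
    (hQ : ∀ σ : F ≃+* F, orderOf σ = orderOf α → _root_.Cfsg.Agent.H185.OrthCent.Fix σ Q ∧ _root_.Cfsg.Agent.H185.OrthCent.Ext (Fx σ).subtype (Q₀ (Fx σ)) Q) :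
    ∃ E : Subfield F, Nat.card F = Nat.card E ^ orderOf α ∧ Sec K α (POmega E (q₀ E)) := by
  subst hq
  subst hq₀
  exact fix_gen hG hc e hcop hcard α hα Q₀ hQ

omit [IsSimpleGroup K] in
private theorem fin_gen {ι : Type} [Fintype ι] [DecidableEq ι] [Nonempty ι] {Q : QuadraticForm F (ι → F)} (hG : Good Q)
    {σ : F ≃+* F} (hfix : _root_.Cfsg.Agent.H185.OrthCent.Fix σ Q) {q : (ι → F) → F} (hq : ⇑Q = q)
    (e : K ≃* POmega F q) {σ₀ : MulAut (POmega F q)} (hσ₀ : CopIn (POmega F q) σ₀) (α : MulAut K)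
    (hα' : (orderOf (MulAut.congr e α)).Coprime (Nat.card (POmega F q))) (hσ : orderOf σ = orderOf α)
    {Q₀ : QuadraticForm (Fx σ) (ι → Fx σ)} {q₀ : (ι → Fx σ) → Fx σ} (hq₀ : ⇑Q₀ = q₀)
    (hE : _root_.Cfsg.Agent.H185.OrthCent.Ext (Fx σ).subtype Q₀ Q) : Sec K α (POmega (Fx σ) q₀) := by
  subst hq
  subst hq₀
  have hfin : Finite (POmega F ⇑Q) := Finite.of_equiv K e.toEquiv
  have h3 : Sec (POmega F ⇑Q) (Phi hG (frobG hfix)) (POmega (Fx σ) ⇑Q₀) := sec_orth hE hG hfix (fun b => b.2)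
  have ho : orderOf (Phi hG (frobG hfix)) = orderOf (MulAut.congr e α) :=
    (orderOf_Phi_frob hG hfix).trans (hσ.trans (orderOf_congr e α).symm)
  exact sec_of_equiv e α (sec_of_copIn hσ₀ _ _ hα' ho h3)

/-- the model inherits the hypotheses -/
theorem model {M : Type u} [Group M] (e : K ≃* M) (hna : ¬ IsMulCommutative K) (h2 : 2 ∣ Nat.card K) :
    Finite M ∧ IsSimpleGroup M ∧ ¬ IsMulCommutative M ∧ 2 ∣ Nat.card M := by
  refine ⟨Finite.of_equiv K e.toEquiv, e.symm.isSimpleGroup, ?_, by rw [← Nat.card_congr e.toEquiv]; exact h2⟩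
  intro hc
  apply hna
  refine ⟨⟨fun a b => e.injective ?_⟩⟩
  rw [map_mul, map_mul]
  exact hc.is_comm.comm _ _

/-- **Fixed points, odd-dimensional orthogonal groups.** -/
theorem fix_odd (hm : 3 ≤ m) (hodd : Odd (Fintype.card F)) (hna : ¬ IsMulCommutative K) (h2 : 2 ∣ Nat.card K)
    (e : K ≃* POmega F (quadFormOdd m F)) (α : MulAut K) (hα : (orderOf α).Coprime (Nat.card K)) :
    ∃ E : Subfield F, Nat.card F = Nat.card E ^ orderOf α ∧ Sec K α (POmega E (quadFormOdd m E)) := by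
  obtain ⟨i1, i2, hna', h2'⟩ := model e hna h2
  obtain ⟨p, hchar⟩ := CharP.exists F
  obtain ⟨f, hp, hf⟩ := FiniteField.card F p
  have hpf : Fact p.Prime := ⟨hp⟩
  have hpodd : Odd p := by
    have h1 := hodd
    rw [hf] at h1
    exact (Nat.odd_pow_iff f.pos.ne').1 h1
  have h20 : (2 : F) ≠ 0 := Cfsg.Agent.LieClassical.PomegaCard.odd_card_iff.1 hodd
  have hf' : Nat.card (F ≃+* F) = f := Lib.FieldAutCard.card_ringAut f.pos hf
  have hcard := S0816.result p f f.pos hf hpodd m hm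
  have hne : Nonempty (Unit ⊕ (Fin m ⊕ Fin m)) := ⟨.inl ()⟩
  refine fix_gen' (Q := oddQ m F) (good_oddQ (by omega) h20) (q := quadFormOdd m F) rfl (c := 2) ?_ e
    (Orth.copIn_odd hm hodd hna' h2') ?_ α hα (fun E => oddQ m E) (fun E => quadFormOdd m E) rfl ?_
  · intro r hr hd
    rw [(Nat.prime_dvd_prime_iff_eq hr Nat.prime_two).1 hd]; exact h2
  · rw [hf']
    exact hcard.dvd
  · intro σ _
    exact ⟨fix_oddQ σ m, ext_oddQ _ m⟩

/-- **Fixed points, orthogonal groups of plus type.** -/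
theorem fix_plus (hm : 4 ≤ m) (hna : ¬ IsMulCommutative K) (h2 : 2 ∣ Nat.card K)
    (e : K ≃* POmega F (quadFormPlus m F)) (α : MulAut K) (hα : (orderOf α).Coprime (Nat.card K)) :
    ∃ E : Subfield F, Nat.card F = Nat.card E ^ orderOf α ∧ Sec K α (POmega E (quadFormPlus m E)) := by
  obtain ⟨i1, i2, hna', h2'⟩ := model e hna h2
  obtain ⟨p, hchar⟩ := CharP.exists F
  obtain ⟨f, hp, hf⟩ := FiniteField.card F p
  have hpf : Fact p.Prime := ⟨hp⟩
  have hf' : Nat.card (F ≃+* F) = f := Lib.FieldAutCard.card_ringAut f.pos hf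
  have hcard := S0817.result p f f.pos hf m hm
  have hne : Nonempty (Fin m ⊕ Fin m) := ⟨.inl ⟨0, by omega⟩⟩
  refine fix_gen' (Q := plusQ m F) (good_plusQ (by omega)) (q := quadFormPlus m F) rfl (c := 3 * 8) ?_ e
    (Orth.copIn_plus hm hna' h2') ?_ α hα (fun E => plusQ m E) (fun E => quadFormPlus m E) rfl ?_
  · intro r hr hd
    rcases (hr.dvd_mul).1 hd with h | h
    · rw [(Nat.prime_dvd_prime_iff_eq hr Nat.prime_three).1 h, Nat.card_congr e.toEquiv]
      exact Orth.three_dvd_plus hm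
    · have h4 : r ∣ 2 ^ 3 := h
      rw [(Nat.prime_dvd_prime_iff_eq hr Nat.prime_two).1 (hr.dvd_of_dvd_pow h4)]; exact h2
  · rw [hf']
    rw [hcard]
    have h6 : (if m = 4 then 3 else 1) ∣ 3 := by
      split_ifs
      · exact dvd_rfl
      · exact one_dvd _
    have h7 : (if p = 2 then 2 else (if Even (m * (p ^ (f : ℕ) - 1) / 2) then 8 else 4)) ∣ 8 := by
      split_ifs
      · exact ⟨4, by norm_num⟩
      · exact dvd_rfl
      · exact ⟨2, by norm_num⟩
    exact Nat.mul_dvd_mul_right (Nat.mul_dvd_mul (Nat.mul_dvd_mul h6 h7) dvd_rfl) _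
  · intro σ _
    exact ⟨fix_plusQ σ m, ext_plusQ _ m⟩

/-- **Fixed points, orthogonal groups of minus type.** -/
theorem fix_minus (hm : 4 ≤ m) (a b : F)
    (hab : ∀ z₁ z₂ : F, z₁ ^ 2 + a * z₁ * z₂ + b * z₂ ^ 2 = 0 → z₁ = 0 ∧ z₂ = 0)
    (hna : ¬ IsMulCommutative K) (h2 : 2 ∣ Nat.card K)
    (e : K ≃* POmega F (quadFormMinus (m - 1) F a b)) (α : MulAut K) (hα : (orderOf α).Coprime (Nat.card K)) :
    ∃ (E : Subfield F) (a₀ b₀ : E), Nat.card F = Nat.card E ^ orderOf α ∧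
      (∀ z₁ z₂ : E, z₁ ^ 2 + a₀ * z₁ * z₂ + b₀ * z₂ ^ 2 = 0 → z₁ = 0 ∧ z₂ = 0) ∧
      Sec K α (POmega E (quadFormMinus (m - 1) E a₀ b₀)) := by
  obtain ⟨i1, i2, hna', h2'⟩ := model e hna h2
  obtain ⟨p, hchar⟩ := CharP.exists F
  obtain ⟨f, hp, hf⟩ := FiniteField.card F p
  have hpf : Fact p.Prime := ⟨hp⟩
  have hf' : Nat.card (F ≃+* F) = f := Lib.FieldAutCard.card_ringAut f.pos hf
  have hc8 : ∀ r : ℕ, r.Prime → r ∣ 8 → r ∣ Nat.card K := by
    intro r hr hd
    have h4 : r ∣ 2 ^ 3 := hd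
    rw [(Nat.prime_dvd_prime_iff_eq hr Nat.prime_two).1 (hr.dvd_of_dvd_pow h4)]; exact h2
  have hcard : ∀ a b : F, (∀ z₁ z₂ : F, z₁ ^ 2 + a * z₁ * z₂ + b * z₂ ^ 2 = 0 → z₁ = 0 ∧ z₂ = 0) →
      Nat.card (MulAut (POmega F (quadFormMinus (m - 1) F a b))) ∣
        8 * Nat.card (F ≃+* F) * Nat.card (POmega F (quadFormMinus (m - 1) F a b)) := by
    intro a b hab
    rw [S0818.result p f f.pos hf m hm a b hab, hf']
    have h7 : (if p = 2 then 2 else (if Even (m * (p ^ (f : ℕ) - 1) / 2) then 4 else 8)) ∣ 8 := by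
      split_ifs
      · exact ⟨4, by norm_num⟩
      · exact ⟨2, by norm_num⟩
      · exact dvd_rfl
    exact Nat.mul_dvd_mul_right (Nat.mul_dvd_mul h7 dvd_rfl) _
  -- the order divides the degree
  have hKc : Nat.card (POmega F (quadFormMinus (m - 1) F a b)) = Nat.card K := Nat.card_congr e.symm.toEquiv
  have hn : orderOf α ∣ Nat.card (F ≃+* F) := by
    rw [← orderOf_congr e α]
    refine dvd_of_card (K := POmega F (quadFormMinus (m - 1) F a b)) (c := 8) (by rw [hKc]; exact hc8) (hcard a b hab) _ ?_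
    rw [orderOf_congr, hKc]; exact hα
  obtain ⟨σ, hσ⟩ := exists_order F hn
  have hodd : Odd (orderOf α) := by
    rw [← Nat.not_even_iff_odd, even_iff_two_dvd]
    intro h
    have h3 : 2 ∣ Nat.gcd (orderOf α) (Nat.card K) := Nat.dvd_gcd h h2
    rw [hα] at h3
    omega
  have hcE : Nat.card F = Nat.card (Fx σ) ^ orderOf α := by rw [← hσ]; exact card_Fx σ
  obtain ⟨ζ, hζ⟩ := H182.Sign.exists_aniso (Fx σ)
  have hab₀ : Aniso (1 : Fx σ) ζ := hζ
  have hab₁ : Aniso ((Fx σ).subtype 1) ((Fx σ).subtype ζ) := aniso_map (Fx σ).subtype hodd hcE hab₀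
  -- change the form
  obtain ⟨e₁⟩ := H902.Iso.minus_congr (m - 1) hab hab₁
  have e₂ := e.trans e₁
  obtain ⟨j1, j2, hna'', h2''⟩ := model e₂ hna h2
  have hne : Nonempty ((Fin (m - 1) ⊕ Fin (m - 1)) ⊕ Fin 2) := ⟨.inr 0⟩
  have hG : Good (minusQ (m - 1) F ((Fx σ).subtype 1) ((Fx σ).subtype ζ)) := good_minusQ (by omega) hab₁
  have hfix : _root_.Cfsg.Agent.H185.OrthCent.Fix σ (minusQ (m - 1) F ((Fx σ).subtype 1) ((Fx σ).subtype ζ)) :=
    fix_minus' (1 : Fx σ).2 ζ.2 (m - 1)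
  obtain ⟨σ₀, hσ₀⟩ := Orth.copIn_minus hm _ _ hab₁ hna'' h2''
  have hKc' : Nat.card (POmega F (quadFormMinus (m - 1) F ((Fx σ).subtype 1) ((Fx σ).subtype ζ))) = Nat.card K :=
    Nat.card_congr e₂.symm.toEquiv
  have hα' : (orderOf (MulAut.congr e₂ α)).Coprime
      (Nat.card (POmega F (quadFormMinus (m - 1) F ((Fx σ).subtype 1) ((Fx σ).subtype ζ)))) := by
    rw [orderOf_congr, hKc']; exact hα
  refine ⟨Fx σ, 1, ζ, hcE, hab₀, ?_⟩
  exact fin_gen hG hfix (q := quadFormMinus (m - 1) F ((Fx σ).subtype 1) ((Fx σ).subtype ζ)) rfl e₂ hσ₀ α hα' hσ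
    (Q₀ := minusQ (m - 1) (Fx σ) 1 ζ) (q₀ := quadFormMinus (m - 1) (Fx σ) 1 ζ) rfl (ext_minus (Fx σ).subtype (m - 1) 1 ζ)

end rows

end Cfsg.Agent.H24.FixOrth
end

-- part: H24/FixPSp
section
set_option linter.all false
open scoped Cfsg.Agent.FastGrp

/-!
# Fixed points of coprime automorphisms of the symplectic groups

`fix_psp` : for `K ≃* PSp_2m(F)`, `α` an automorphism of order prime to `|K|`, there is a subfield `E`,
`|F| = |E| ^ orderOf α`, such that `PSp_2m(E)` is a section of `C_K(α)`.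
-/

set_option autoImplicit false

namespace Cfsg.Agent.H24.FixPSp

open Cfsg Matrix Cfsg.Agent.H254 Cfsg.Agent.H967.CopMat Cfsg.Agent.H967.CopSec Cfsg.Agent.H24.FixOrth
open Cfsg.Agent.ClassicalGeometry.SympAutSemi Cfsg.Agent.ClassicalGeometry.SympGamma

universe u v

variable {F : Type u} [Field F] {m : ℕ}

/-- Symplectic groups over a smaller field. -/
def spHom {E : Type v} [Field E] (m : ℕ) (j : E →+* F) :
    Matrix.symplecticGroup (Fin m) E →* Matrix.symplecticGroup (Fin m) F where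
  toFun A := ⟨(A : Matrix (Fin m ⊕ Fin m) (Fin m ⊕ Fin m) E).map j, SymplecticGroup.map_mem A.2 j⟩
  map_one' := Subtype.ext (by simp)
  map_mul' A B := Subtype.ext (by simp [Matrix.map_mul])

theorem spHom_coe {E : Type v} [Field E] (j : E →+* F) (A : Matrix.symplecticGroup (Fin m) E) :
    (spHom m j A : Matrix (Fin m ⊕ Fin m) (Fin m ⊕ Fin m) F) = (A : Matrix (Fin m ⊕ Fin m) (Fin m ⊕ Fin m) E).map j := rfl

theorem spHom_injective {E : Type v} [Field E] (j : E →+* F) : Function.Injective (spHom m j) := by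
  intro A B h
  apply Subtype.ext
  have h1 := congrArg Subtype.val h
  rw [spHom_coe, spHom_coe] at h1
  exact Matrix.map_injective j.injective h1

theorem conjHom_spHom {E : Type v} [Field E] (j : E →+* F) {σ : F ≃+* F} (hσ : ∀ b, σ (j b) = j b)
    (A : Matrix.symplecticGroup (Fin m) E) :
    conjHom m F (PSP.frobSS m σ) (spHom m j A) = spHom m j A := by
  apply rho_injective
  rw [rho_conjHom, mul_inv_eq_iff_eq_mul]
  ext1 v
  rw [Equiv.Perm.mul_apply, Equiv.Perm.mul_apply, rho_apply, rho_apply]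
  change (fun i => σ (((spHom m j A : Matrix (Fin m ⊕ Fin m) (Fin m ⊕ Fin m) F) *ᵥ v) i)) =
    (spHom m j A : Matrix (Fin m ⊕ Fin m) (Fin m ⊕ Fin m) F) *ᵥ (fun i => σ (v i))
  funext i
  simp only [Matrix.mulVec, dotProduct, map_sum, map_mul, spHom_coe, Matrix.map_apply, hσ]

theorem sec_psp {E : Type v} [Field E] (j : E →+* F) {σ : F ≃+* F} (hσ : ∀ b, σ (j b) = j b) :
    Sec (PSp m F) (PSP.fld m σ) (PSp m E) := by
  refine sec_of_center (spHom m j) (spHom_injective j) (PSP.fld m σ) ?_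
  intro x
  change Psi m F (PSP.frobSS m σ) (QuotientGroup.mk (spHom m j x)) = _
  rw [Psi_mk, conjHom_spHom j hσ]

theorem orderOf_fld (hm : 1 ≤ m) (σ : F ≃+* F) : orderOf (PSP.fld m σ) = orderOf σ :=
  Nat.dvd_antisymm (orderOf_map_dvd (PSP.fld m) σ) (PSP.orderOf_dvd hm σ)

/-- **Fixed points, symplectic groups.** -/
theorem fix_psp [Fintype F] {K : Type v} [Group K] [Finite K] [IsSimpleGroup K] (hm : 2 ≤ m)
    (h3 : m = 2 → 3 ≤ Fintype.card F) (hna : ¬ IsMulCommutative K) (h2 : 2 ∣ Nat.card K)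
    (e : K ≃* PSp m F) (α : MulAut K) (hα : (orderOf α).Coprime (Nat.card K)) :
    ∃ E : Subfield F, Nat.card F = Nat.card E ^ orderOf α ∧ Sec K α (PSp m E) := by
  obtain ⟨i1, i2, hna', h2'⟩ := model e hna h2
  obtain ⟨p, hchar⟩ := CharP.exists F
  obtain ⟨f, hp, hf⟩ := FiniteField.card F p
  have hpf : Fact p.Prime := ⟨hp⟩
  have hcard := S0814.result p f f.pos hf m hm (fun h => by rw [← hf]; exact h3 h)
  have hf' : Nat.card (F ≃+* F) = f := Lib.FieldAutCard.card_ringAut f.pos hf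
  obtain ⟨ρ, hρ, -⟩ := exists_ringAut F
  have hc := PSP.copIn hm h3 hna' h2' ρ hρ
  have hKc : Nat.card (PSp m F) = Nat.card K := Nat.card_congr e.symm.toEquiv
  have hα' : (orderOf (MulAut.congr e α)).Coprime (Nat.card (PSp m F)) := by
    rw [orderOf_congr, hKc]; exact hα
  have hn : orderOf (MulAut.congr e α) ∣ Nat.card (F ≃+* F) := by
    refine dvd_of_card (K := PSp m F) (c := 4) ?_ ?_ _ hα'
    · intro r hr hd
      have h4 : r ∣ 2 ^ 2 := hd
      rw [(Nat.prime_dvd_prime_iff_eq hr Nat.prime_two).1 (hr.dvd_of_dvd_pow h4)]; exact h2'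
    · rw [hcard, hf']
      have h6 : Nat.gcd 2 (p ^ (f : ℕ) - 1) ∣ 2 := Nat.gcd_dvd_left _ _
      have h7 : (if m = 2 ∧ p = 2 then 2 else 1) ∣ 2 := by
        split_ifs
        · exact dvd_rfl
        · exact one_dvd _
      have h8 : (4 : ℕ) = 2 * 2 := by norm_num
      rw [h8]
      exact Nat.mul_dvd_mul_right (Nat.mul_dvd_mul (Nat.mul_dvd_mul h7 h6) dvd_rfl) _
  obtain ⟨σ, hσ⟩ := exists_order F hn
  rw [orderOf_congr] at hσ
  refine ⟨Fx σ, by rw [← hσ]; exact card_Fx σ, ?_⟩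
  have h5 : Sec (PSp m F) (PSP.fld m σ) (PSp m (Fx σ)) := sec_psp (Fx σ).subtype (fun b => b.2)
  exact sec_of_equiv e α (sec_of_copIn hc _ _ hα' (by rw [orderOf_fld (by omega), orderOf_congr, hσ]) h5)

end Cfsg.Agent.H24.FixPSp
end

-- part: H961/FixLin
section
set_option linter.all false
open scoped Cfsg.Agent.FastGrp

/-!
# Fixed points of coprime automorphisms of the linear and unitary groups (helper961)

* `fix_psl` : `K ≃* PSL_n(F)`, `α` an automorphism of order prime to `|K|`: there is a subfield `E`,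
  `|F| = |E| ^ orderOf α`, such that `PSL_n(E)` is a section of `C_K(α)`;
* `fix_psu` : the same for `PSU_n(q)`: `|F| = q ^ 2`, `|E| = q₀ ^ 2`, `q = q₀ ^ orderOf α`.
-/

set_option autoImplicit false

namespace Cfsg.Agent.H961.FixLin

open Cfsg Matrix Cfsg.Agent.H254 Cfsg.Agent.H967.CopMat Cfsg.Agent.H967.CopSec
open Cfsg.Agent.H24.FixOrth (sec_of_copIn sec_of_equiv orderOf_congr dvd_of_card exists_order model)

universe u v

section psl

open Cfsg.Agent.ClassicalGeometry.AutPSL.Auto Cfsg.Agent.ClassicalGeometry.AutPSL.Main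

variable {F : Type v} [Field F] {n : ℕ}

theorem orderOf_lift_fld (hn : 2 ≤ n) (ρ : F ≃+* F) :
    orderOf (lift (fld ρ) : MulAut (Matrix.ProjectiveSpecialLinearGroup (Fin n) F)) = orderOf ρ := by
  refine Nat.dvd_antisymm ?_ (H254.PSL.orderOf_dvd hn ρ)
  exact orderOf_map_dvd ((lift (ι := Fin n) (F := F)).comp fld) ρ

/-- `SL_n` of the fixed field. -/
theorem sec_psl (n : ℕ) (σ : F ≃+* F) {E : Type u} [Field E] (j : E →+* F) (hj : ∀ b, σ (j b) = j b) :
    Sec (Matrix.ProjectiveSpecialLinearGroup (Fin n) F) (lift (fld σ)) (Matrix.ProjectiveSpecialLinearGroup (Fin n) E) := by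
  refine sec_of_center (Matrix.SpecialLinearGroup.map j) ?_ _ ?_
  · intro g h hgh
    apply Subtype.ext
    ext a b
    have h1 := congrArg (fun x : Matrix.SpecialLinearGroup (Fin n) F => x.1 a b) hgh
    exact j.injective h1
  · intro x
    have h1 : fld σ (Matrix.SpecialLinearGroup.map j x) = Matrix.SpecialLinearGroup.map j x := by
      apply Subtype.ext
      ext a b
      exact hj _
    change QuotientGroup.mk (fld σ (Matrix.SpecialLinearGroup.map j x)) = _
    rw [h1]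

/-- **Fixed points, linear groups.** -/
theorem fix_psl [Fintype F] (hn : 2 ≤ n) (h4 : n = 2 → 4 ≤ Fintype.card F) {K : Type u} [Group K] [Finite K]
    [IsSimpleGroup K] (hna : ¬ IsMulCommutative K) (h2 : 2 ∣ Nat.card K)
    (e : K ≃* Matrix.ProjectiveSpecialLinearGroup (Fin n) F) (α : MulAut K)
    (hα : (orderOf α).Coprime (Nat.card K)) :
    ∃ E : Subfield F, Nat.card F = Nat.card E ^ orderOf α ∧
      Sec K α (Matrix.ProjectiveSpecialLinearGroup (Fin n) E) := by
  obtain ⟨i1, i2, hna', h2'⟩ := model e hna h2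
  obtain ⟨p, hchar⟩ := CharP.exists F
  obtain ⟨f, hp, hf⟩ := FiniteField.card F p
  have hpf : Fact p.Prime := ⟨hp⟩
  have hq1 : 1 < Fintype.card F := Fintype.one_lt_card
  have hcard := S0813.result p f f.pos hf n hn (fun h => by rw [← hf]; exact h4 h)
  have hpgl : Nat.card (Matrix.ProjGenLinGroup (Fin n) F)
      = Nat.gcd n (Fintype.card F - 1) * Nat.card (Matrix.ProjectiveSpecialLinearGroup (Fin n) F) :=
    H183.OutPSL.card_pgl_eq hn
  have hf' : Nat.card (F ≃+* F) = f := Lib.FieldAutCard.card_ringAut f.pos hf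
  have hKc : Nat.card (Matrix.ProjectiveSpecialLinearGroup (Fin n) F) = Nat.card K := Nat.card_congr e.symm.toEquiv
  have hα' : (orderOf (MulAut.congr e α)).Coprime (Nat.card (Matrix.ProjectiveSpecialLinearGroup (Fin n) F)) := by
    rw [orderOf_congr, hKc]; exact hα
  have hdvd : orderOf (MulAut.congr e α) ∣ Nat.card (F ≃+* F) := by
    refine dvd_of_card (K := Matrix.ProjectiveSpecialLinearGroup (Fin n) F)
      (c := 2 * Nat.gcd n (Fintype.card F - 1)) ?_ ?_ _ hα'
    · intro r hr hd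
      rcases (Nat.Prime.dvd_mul hr).1 hd with h | h
      · rw [(Nat.prime_dvd_prime_iff_eq hr Nat.prime_two).1 h]; exact h2'
      · rcases Nat.lt_or_ge n 3 with h3 | h3
        · have hn2 : n = 2 := by omega
          subst hn2
          have : r ∣ 2 := h.trans (Nat.gcd_dvd_left _ _)
          rw [(Nat.prime_dvd_prime_iff_eq hr Nat.prime_two).1 this]; exact h2'
        · exact H254.PSL.dvd_card h3 (h.trans (Nat.gcd_dvd_right _ _))
    · rw [hcard, hpgl, hf']
      by_cases hn2 : n = 2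
      · rw [if_pos hn2]
        exact ⟨2, by ring⟩
      · rw [if_neg hn2]
        exact ⟨1, by ring⟩
  obtain ⟨σ, hσ⟩ := exists_order F hdvd
  rw [orderOf_congr] at hσ
  refine ⟨Fx σ, by rw [← hσ]; exact card_Fx σ, ?_⟩
  obtain ⟨ρ, hρ, -⟩ := exists_ringAut F
  have hcopIn := H254.PSL.copIn hn h4 hna' h2' ρ hρ
  refine sec_of_equiv e α (sec_of_copIn hcopIn _ (lift (fld σ)) hα' ?_ (sec_psl n σ (Fx σ).subtype fun b => b.2))
  rw [orderOf_lift_fld hn, orderOf_congr, hσ]

end psl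

section psu

open Cfsg.Agent.ClassicalGeometry.PSUAutCount Cfsg.Agent.LieClassical.HermBasic Cfsg.Agent.LieClassical.HermSiegel
  Cfsg.Agent.LieClassical.HermGen Cfsg.Agent.LieClassical.SUBasic
  Cfsg.Agent.ClassicalGeometry.UnitAutBasic Cfsg.Agent.LieClassical.FieldTransfer

variable {F : Type v} [Field F] {n q : ℕ}

/-- the `q`-power and the `q₀`-power maps agree on the subfield -/
theorem pow_eq {E : Type*} [Field E] [Finite E] {q₀ k : ℕ} (hE : Nat.card E = q₀ ^ 2) (hk : Odd k) (x : E) :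
    x ^ (q₀ ^ k) = x ^ q₀ := by
  obtain ⟨l, rfl⟩ := hk
  have h1 : ∀ l : ℕ, x ^ (q₀ ^ (2 * l)) = x := by
    intro l
    induction l with
    | zero => simp
    | succ l ih =>
      rw [show 2 * (l + 1) = 2 * l + 2 by ring, pow_add, pow_mul, ih, ← hE]
      have := Fintype.ofFinite E
      rw [Nat.card_eq_fintype_card]
      exact FiniteField.pow_card x
  rw [pow_add, pow_one, pow_mul, h1]

/-- `SU_n` of the fixed field. -/
theorem mem_SU_map [Fintype F] (hF : Fintype.card F = q ^ 2) {E : Type u} [Field E] [Fintype E] {q₀ k : ℕ}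
    (hE : Fintype.card E = q₀ ^ 2) (hk : Odd k) (hq : q = q₀ ^ k) (j : E →+* F)
    {g : Matrix.SpecialLinearGroup (Fin n) E} (hg : g ∈ SU n E q₀) :
    Matrix.SpecialLinearGroup.map j g ∈ SU n F q := by
  obtain ⟨p, hchar⟩ := CharP.exists F
  obtain ⟨f, hp, hf⟩ := FiniteField.card F p
  have hpf : Fact p.Prime := ⟨hp⟩
  have hcharE : CharP E p := (RingHom.charP_iff j j.injective p).2 hchar
  obtain ⟨s, hs⟩ : ∃ s, q = p ^ s := by
    have h1 : q ∣ p ^ (f : ℕ) := by rw [← hf, hF]; exact dvd_pow_self q two_ne_zero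
    obtain ⟨s, -, h⟩ := (Nat.dvd_prime_pow hp).1 h1
    exact ⟨s, h⟩
  obtain ⟨s₀, hs₀⟩ : ∃ s, q₀ = p ^ s := by
    obtain ⟨f₀, -, hf₀⟩ := FiniteField.card E p
    have h1 : q₀ ∣ p ^ (f₀ : ℕ) := by rw [← hf₀, hE]; exact dvd_pow_self q₀ two_ne_zero
    obtain ⟨s, -, h⟩ := (Nat.dvd_prime_pow hp).1 h1
    exact ⟨s, h⟩
  obtain ⟨σ, hσ⟩ := H155.Unit.exists_frobHom F p s
  obtain ⟨σ₀, hσ₀⟩ := H155.Unit.exists_frobHom E p s₀
  rw [← hs] at hσ
  rw [← hs₀] at hσ₀
  rw [H155.Unit.mem_SU_iff_matrix σ hσ]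
  rw [H155.Unit.mem_SU_iff_matrix σ₀ hσ₀] at hg
  have h1 : ((Matrix.SpecialLinearGroup.map j g : Matrix.SpecialLinearGroup (Fin n) F) : Matrix (Fin n) (Fin n) F) =
      j.mapMatrix (g : Matrix (Fin n) (Fin n) E) := rfl
  have h2 : (j.mapMatrix (g : Matrix (Fin n) (Fin n) E)).map σ =
      j.mapMatrix ((g : Matrix (Fin n) (Fin n) E).map σ₀) := by
    ext a b
    change σ (j (g.1 a b)) = j (σ₀ (g.1 a b))
    rw [hσ, hσ₀, ← map_pow, hq, pow_eq (by rw [Nat.card_eq_fintype_card]; exact hE) hk]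
  have h3 : (j.mapMatrix (g : Matrix (Fin n) (Fin n) E))ᵀ = j.mapMatrix (g : Matrix (Fin n) (Fin n) E)ᵀ := by
    ext a b
    rfl
  rw [h1, h2, h3, ← map_mul, hg, map_one]

theorem sec_psu [Fintype F] (hF : Fintype.card F = q ^ 2) {E : Type u} [Field E] [Fintype E] {q₀ k : ℕ}
    (hE : Fintype.card E = q₀ ^ 2) (hk : Odd k) (hq : q = q₀ ^ k) (j : E →+* F) (σ : F ≃+* F)
    (hj : ∀ b, σ (j b) = j b) :
    Sec (PSU n F q) (PSUn.fld n q σ) (PSU n E q₀) := by
  refine sec_of_center (((Matrix.SpecialLinearGroup.map (n := Fin n) j).comp (SU n E q₀).subtype).codRestrict (SU n F q)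
    (fun g => mem_SU_map hF hE hk hq j g.2)) ?_ _ ?_
  · intro g h hgh
    apply Subtype.ext
    apply Subtype.ext
    ext a b
    have h1 := congrArg (fun x : SU n F q => x.1.1 a b) hgh
    exact j.injective h1
  · intro x
    rw [PSUn.fld_apply]
    change (QuotientGroup.mk (semiConj (1 : Cfsg.GU n F q) σ _) : PSU n F q) = QuotientGroup.mk _
    congr 1
    have h0 : ∀ g : SU n F q, (∀ a b, σ (g.1.1 a b) = g.1.1 a b) → semiConj (1 : Cfsg.GU n F q) σ g = g := by
      intro g hg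
      have h1 : gm (1 : Cfsg.GU n F q) = 1 := rfl
      have h2 : mat (semiConj (1 : Cfsg.GU n F q) σ g) =
          gm (1 : Cfsg.GU n F q) * mat (suCongr n q σ g) * gm (1 : Cfsg.GU n F q)⁻¹ := rfl
      rw [inv_one, h1, one_mul, mul_one] at h2
      apply Subtype.ext
      apply Subtype.ext
      change mat (semiConj (1 : Cfsg.GU n F q) σ g) = mat g
      rw [h2]
      ext a b
      exact hg a b
    exact h0 _ fun a b => hj _

/-- **Fixed points, unitary groups.** -/
theorem fix_psu [Fintype F] (hF : Fintype.card F = q ^ 2) (hn : 3 ≤ n) (h32 : ¬ (n = 3 ∧ q = 2)) {K : Type u}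
    [Group K] [Finite K] [IsSimpleGroup K] (hna : ¬ IsMulCommutative K) (h2 : 2 ∣ Nat.card K) (e : K ≃* PSU n F q)
    (α : MulAut K) (hα : (orderOf α).Coprime (Nat.card K)) :
    ∃ (E : Subfield F) (q₀ : ℕ), Nat.card F = Nat.card E ^ orderOf α ∧ Nat.card E = q₀ ^ 2 ∧ q = q₀ ^ orderOf α ∧
      Sec K α (PSU n E q₀) := by
  obtain ⟨i1, i2, hna', h2'⟩ := model e hna h2
  obtain ⟨p, hchar⟩ := CharP.exists F
  obtain ⟨f, hp, hf⟩ := FiniteField.card F p
  have hpf : Fact p.Prime := ⟨hp⟩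
  have hq : ∃ s : ℕ, 1 ≤ s ∧ q = p ^ s := by
    have h1 : q ∣ p ^ (f : ℕ) := by rw [← hf, hF]; exact dvd_pow_self q two_ne_zero
    obtain ⟨s, -, hs⟩ := (Nat.dvd_prime_pow hp).1 h1
    refine ⟨s, ?_, hs⟩
    rcases Nat.eq_zero_or_pos s with h0 | h0
    · exfalso
      rw [h0, pow_zero] at hs
      rw [hs, one_pow] at hF
      have := Fintype.one_lt_card (α := F)
      omega
    · exact h0
  obtain ⟨s, hs1, hs⟩ := hq
  have hcard := S0815.result p s hs1 hs hF n hn h32
  have hf' : Nat.card (F ≃+* F) = 2 * s :=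
    Lib.FieldAutCard.card_ringAut (p := p) (by omega) (by rw [hF, hs, ← pow_mul, mul_comm])
  have hKc : Nat.card (PSU n F q) = Nat.card K := Nat.card_congr e.symm.toEquiv
  have hα' : (orderOf (MulAut.congr e α)).Coprime (Nat.card (PSU n F q)) := by
    rw [orderOf_congr, hKc]; exact hα
  have hodd : Odd (orderOf α) := by
    rw [← Nat.not_even_iff_odd, even_iff_two_dvd]
    intro h
    have h3 : 2 ∣ Nat.gcd (orderOf α) (Nat.card K) := Nat.dvd_gcd h h2
    rw [hα] at h3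
    omega
  have hdvd : orderOf (MulAut.congr e α) ∣ Nat.card (F ≃+* F) := by
    refine dvd_of_card (K := PSU n F q) (c := Nat.gcd n (q + 1)) ?_ ?_ _ hα'
    · intro r hr hd
      exact PSUn.dvd_card hF hn (hd.trans (Nat.gcd_dvd_right _ _))
    · rw [hcard, hf']
  have hdvd2 := hdvd
  rw [orderOf_congr, hf'] at hdvd2
  obtain ⟨t, ht⟩ : orderOf α ∣ s := (Nat.Coprime.dvd_of_dvd_mul_left (by
    rw [Nat.coprime_comm]; exact Nat.coprime_two_left.2 hodd) hdvd2)
  obtain ⟨σ, hσ⟩ := exists_order F hdvd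
  rw [orderOf_congr] at hσ
  have hcE : Nat.card F = Nat.card (Fx σ) ^ orderOf α := by rw [← hσ]; exact card_Fx σ
  have hne : orderOf α ≠ 0 := by
    rintro h0
    rw [h0] at hodd
    exact absurd hodd (by decide)
  have hq₀ : q = (p ^ t) ^ orderOf α := by rw [hs, ht, ← pow_mul, mul_comm]
  have hE : Nat.card (Fx σ) = (p ^ t) ^ 2 := by
    have h3 : Nat.card (Fx σ) ^ orderOf α = ((p ^ t) ^ 2) ^ orderOf α := by
      rw [← hcE, Nat.card_eq_fintype_card, hF, hq₀, ← pow_mul, ← pow_mul, ← pow_mul, ← pow_mul]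
      congr 1
      ring
    exact Nat.pow_left_injective hne h3
  refine ⟨Fx σ, p ^ t, hcE, hE, hq₀, ?_⟩
  obtain ⟨ρ, hρ, -⟩ := exists_ringAut F
  have hcopIn := PSUn.copIn hF hn h32 hna' ρ hρ
  have hfE : Fintype (Fx σ) := Fintype.ofFinite _
  refine sec_of_equiv e α (sec_of_copIn hcopIn _ (PSUn.fld n q σ) hα' ?_
    (sec_psu hF (by rw [← Nat.card_eq_fintype_card]; exact hE) hodd hq₀ (Fx σ).subtype σ fun b => b.2))
  rw [PSUn.orderOf_eq hF hn, orderOf_congr, hσ]

end psu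

end Cfsg.Agent.H961.FixLin
end
end
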